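import Mathlib
import Cfsg.Agent.H613.KS.Defs
import Cfsg.Agent.H613.KKL.CI
import Cfsg.Agent.H40.KKL.PGLTwo
import Cfsg.Agent.H40.KKL.XOne

/-!
# S4577: the classical engine (helper648): interface

`J t` is the fundamental `SL₂(q)` of the classical involution `t`; `At D J = J ⊓ C(D)`.

`TL D t J` is the `SL₂`-layer at a classical involution `t ∈ D` such that `D` does not centralise `J`
(typed by helper425 from the action of `C(t)` on `J` through `GL₂`).
-/

set_option autoImplicit false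

open Cfsg

namespace Cfsg.Agent.H648.KS

open Cfsg.Agent.H613.KS (Cfg CfgB E16 Five)
open Cfsg.Agent.H613.KKL (CI)
open Cfsg.Agent.H40.KKL (Cz)

/-- the elements of `J` which centralise `D` -/
def At {K : Type*} [Group K] (D J : Subgroup K) : Subgroup K := J ⊓ Subgroup.centralizer (D : Set K)

/-- The `SL₂`-layer at the classical involution `t ∈ D` with fundamental subgroup `J`, used only if some element of `D`
does not centralise `J`. -/
structure TL {K : Type*} [Group K] (D : Subgroup K) (t : K) (J : Subgroup K) : Prop where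
  comm : ∀ a ∈ At D J, ∀ b ∈ At D J, a * b = b * a
  sgn : ∀ g : K, (∀ d : K, g * d * g⁻¹ ∈ D ↔ d ∈ D) → g * t = t * g →
    (∀ a ∈ At D J, g * a * g⁻¹ = a) ∨ (∀ a ∈ At D J, g * a * g⁻¹ = a⁻¹)
  w : ∃ w ∈ J, w * w = t ∧ (∀ d ∈ D, ¬ Cz J d → d * w * d⁻¹ = w * t) ∧ ∀ a ∈ At D J, w * a * w⁻¹ = a⁻¹
  inv : ∀ a ∈ J, a * a = 1 → a = 1 ∨ a = t
  ctr : ∀ a ∈ J, (∀ h ∈ J, a * h = h * a) → a = 1 ∨ a = t

end Cfsg.Agent.H648.KS
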